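import Groth.Agent.Lib.CurveCoh17.LES
import Groth.Agent.Lib.CohFound.Qcqs
import Groth.Agent.Lib.CohFound.HHBridge
import Groth.Agent.Lib.ModM1.Coh
import Groth.Agent.Lib.TensorMod.Invertible
import Mathlib.RingTheory.Noetherian.Basic

/-!
# Cohomological bounds from a generating class of locally free modules
-/

set_option autoImplicit false
set_option linter.style.haveILetI false
set_option backward.isDefEq.respectTransparency false

universe u

open CategoryTheory Limits AlgebraicGeometry TopologicalSpace

namespace Groth.Agent.CdLocFree12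

open Groth.Agent CurveCoh17

variable {k : Type u} [Field k] {X : Scheme.{u}} [X.Over (Spec (CommRingCat.of k))]
  [IsSeparated (X ↘ Spec (CommRingCat.of k))] [CompactSpace X]

include k in
theorem isSeparated_top : X.IsSeparated :=
  ⟨by rw [← terminal.comp_from (X ↘ Spec (CommRingCat.of k))]; infer_instance⟩

include k in
/-- Quasi-coherent modules have no cohomology in high degree. -/
theorem exists_bound : ∃ N : ℕ, ∀ F : X.Modules, Coh.IsQCoh F → ∀ i : ℕ, N ≤ i → Subsingleton (Coh.HH X F i) := by
  haveI := isSeparated_top (k := k) (X := X)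
  obtain ⟨T, hfin, hT⟩ := M1.exists_finite_affine_iSup (X := X) (U := (⊤ : X.Opens)) isCompact_univ
  haveI : Fintype T := hfin.fintype
  refine ⟨Fintype.card T, fun F hF i hi => ?_⟩
  rw [CohFound.subsingleton_HH_iff]
  haveI : F.IsQuasicoherent := hF
  have h := CohFound.subsingleton_hc_iSup_affine F (fun V W hV hW => hV.inf hW) (Fintype.card T)
    (fun j => (((Fintype.equivFin T).symm j).1 : X.Opens)) (fun j => ((Fintype.equivFin T).symm j).1.2) i hi
  have e : (⨆ j, (((Fintype.equivFin T).symm j).1 : X.Opens)) = ⊤ := by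
    rw [hT]
    exact (Fintype.equivFin T).symm.surjective.iSup_comp (fun t : T => (t.1 : X.Opens))
  rwa [e] at h

include k in
/-- Descending induction along presentations by a class of modules. -/
theorem of_presentations [IsLocallyNoetherian X] (C : X.Modules → Prop) (Q : X.Modules → ℕ → Prop) (r : ℕ)
    (hC : ∀ F : X.Modules, Coh.IsCoh F → ∃ (E : X.Modules) (π : E ⟶ F), C E ∧ Coh.IsCoh E ∧ Epi π)
    (hbase : ∀ F i, Subsingleton (Coh.HH X F i) → Q F i) (hE : ∀ E, C E → ∀ i, r < i → Q E i)
    (hstep : ∀ (S : ShortComplex X.Modules), S.ShortExact → ∀ i, Q S.X₂ i → Q S.X₁ (i + 1) → Q S.X₃ i)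
    (F : X.Modules) (hF : Coh.IsCoh F) (i : ℕ) (hi : r < i) : Q F i := by
  obtain ⟨N, hN⟩ := exists_bound (k := k) (X := X)
  suffices ∀ (j : ℕ) (i : ℕ), r < i → N ≤ i + j → ∀ F : X.Modules, Coh.IsCoh F → Q F i from
    this N i hi (Nat.le_add_left _ _) F hF
  intro j
  induction j with
  | zero => exact fun i _ hi F hF => hbase F i (hN F hF.1 i hi)
  | succ j ih =>
    intro i hr hi F hF
    obtain ⟨E, π, hCE, hEc, hπ⟩ := hC F hF
    exact hstep (ShortComplex.mk (kernel.ι π) π (kernel.condition π))
      { exact := ShortComplex.exact_kernel π } i (hE E hCE i hr)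
      (ih (i + 1) (by omega) (by omega) _ (M1.isCoh_kernel hEc hF.1 π))

include k in
/-- Vanishing passes to quotients. -/
theorem subsingleton_step (S : ShortComplex X.Modules) (hS : S.ShortExact) (i : ℕ)
    (h2 : Subsingleton (Coh.HH X S.X₂ i)) (h1 : Subsingleton (Coh.HH X S.X₁ (i + 1))) :
    Subsingleton (Coh.HH X S.X₃ i) := by
  refine subsingleton_of_forall_eq 0 fun x => ?_
  obtain ⟨y, rfl⟩ := (exact_hmap_hdelta k hS i x).1 (Subsingleton.elim _ _)
  rw [h2.elim y 0, map_zero]

/-- Finiteness passes to quotients. -/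
theorem finite_step (S : ShortComplex X.Modules) (hS : S.ShortExact) (i : ℕ)
    (h2 : Module.Finite k (Coh.HH X S.X₂ i)) (h1 : Module.Finite k (Coh.HH X S.X₁ (i + 1))) :
    Module.Finite k (Coh.HH X S.X₃ i) := by
  let d := hdelta k hS i
  haveI : Module.Finite k (LinearMap.ker d) := by
    rw [show LinearMap.ker d = LinearMap.range (hmap k S.g i) from
      LinearMap.exact_iff.1 (exact_hmap_hdelta k hS i)]
    infer_instance
  haveI : Module.Finite k (Coh.HH X S.X₃ i ⧸ LinearMap.ker d) :=
    Module.Finite.equiv d.quotKerEquivRange.symm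
  exact Module.Finite.of_submodule_quotient (LinearMap.ker d)

end Groth.Agent.CdLocFree12
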